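import Groth.Agent.S13574
import Groth.Agent.ArtinAtlas.Neutral
import Groth.Agent.AlgStLib.LocQ
import Groth.Agent.AlgStLib.QuotRepProps
import Groth.Agent.AlgSpLib.Singleton

/-!
# Classifying stacks of affine flat finitely presented group schemes are smooth
-/

set_option autoImplicit false
set_option backward.isDefEq.respectTransparency false
set_option backward.isDefEq.respectTransparency.types false
universe u

open CategoryTheory AlgebraicGeometry MonoidalCategory
open AlgSt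

namespace Groth.Agent.BGSmooth

theorem locQ_smooth_BG {S : Scheme.{u}} (G : Over S) [GrpObj G] [IsAffineHom G.hom] [Flat G.hom]
    [LocallyOfFinitePresentation G.hom] :
    LocQ (AlgSp.LocP @Smooth) (FibCat.toSelf (AlgSt.BG Scheme.fppfPrecoverage G)) := by
  have hA : AlgSt.IsAlgStack Scheme.fppfPrecoverage (AlgSt.BG Scheme.fppfPrecoverage G) :=
    (Groth.Agent.S13574.result G).2 ⟨inferInstance, inferInstance⟩
  obtain ⟨U, x, hx, hxs⟩ := hA.atlas
  haveI : Smooth (𝟙_ (Over S)).hom := inferInstanceAs (Smooth (𝟙 S))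
  haveI hU : Smooth U.hom := Groth.Agent.ArtinAtlas.smooth_hom_of_chart hA.isStack.1 hx
    (Groth.Agent.ArtinAtlas.repWith_flat_lfp
      (AlgStLib.Quot.repWith_qX_locP (aX := AlgSt.trivAction G) @Flat AlgSpLib.etST_flat inferInstance)
      (AlgStLib.Quot.repWith_qX_locP (aX := AlgSt.trivAction G) @LocallyOfFinitePresentation
        AlgSpLib.etST_lfp inferInstance))
    AlgStLib.Quot.repWith_qX_surjective
  let Bs : Over S := Over.mk (𝟙 S)
  haveI : Smooth Bs.hom := inferInstanceAs (Smooth (𝟙 S))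
  have ext : ∀ {𝒴 : BasedCategory.{u, u + 1} (Over S)} (F F' : 𝒴 ⥤ᵇ FibCat.selfOver (Over S)), F = F' := by
    intro 𝒴 F F'
    obtain ⟨F, hF⟩ := F
    obtain ⟨F', hF'⟩ := F'
    obtain rfl : F = F' := hF.trans hF'.symm
    rfl
  let h : U ⟶ Bs := Over.homMk U.hom (Category.comp_id _)
  refine ⟨U, Bs, x, FibCat.toSelf (FibCat.overCat Bs), h, eqToIso (ext _ _), hx, hxs, ?_,
    AlgSpLib.locP_yon_map AlgSpLib.etST_smooth h hU⟩
  let W : AlgSp.Space S := ⟨(AlgSp.yon S).obj Bs, AlgSp.IsAlgSpace.yon_obj Bs⟩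
  refine (AlgStLib.repWith_iff_of_equiv (AlgSp.LocP @Smooth) (FibCat.toSelf (FibCat.overCat Bs))
    (AlgSt.ofSpMap (𝟙 W.obj)) (AlgSt.toOverCat Bs) (FibCat.toSelf (AlgSt.ofSch Bs))
    (AlgStLib.isEquivOver_toOverCat Bs) AlgStLib.isEquivOver_toSelf_base
    (eqToIso (ext _ _))).2 ?_
  have := AlgSpLib.locP_yon_map (S := S) AlgSpLib.etST_smooth (𝟙 Bs) (AlgSpLib.etST_smooth.id_mem _)
  rw [CategoryTheory.Functor.map_id] at this
  exact AlgStLib.repWith_ofSpMap AlgStLib.bcStable_smooth (𝟙 W : W ⟶ W) this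

end Groth.Agent.BGSmooth
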